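import Groth.Prelude.Def_AlgSpCov
import Groth.Agent.Lib.AlgSpFpqc.FppfCover
import Groth.Agent.Lib.AlgSpMor.LocP

/-!
# Wide fibre products of schemes over an algebraic space
-/

set_option autoImplicit false
set_option backward.isDefEq.respectTransparency false
set_option backward.isDefEq.respectTransparency.types false

universe u

open CategoryTheory CategoryTheory.Limits AlgebraicGeometry

namespace Groth.Agent.Lib.AlgSpCech

open AlgSp (Sp yon IsAlgSpace RepWith Representable LocP Points)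
open Groth.Agent.Lib.AlgSpace

variable {S : Scheme.{u}}

/-- Flat and locally of finite presentation. -/
abbrev flfp : MorphismProperty Scheme.{u} := @Flat ⊓ @LocallyOfFinitePresentation

theorem locP_of_flfp {X Y : Sp S} {f : X ⟶ Y} (hf : RepWith flfp f) :
    LocP @Flat f ∧ LocP @LocallyOfFinitePresentation f :=
  AlgSpFpqc.Source.locP_inf.1
    (AlgSpMor.LocP.locP_of_repWith AlgSpFpqc.Fppf.etaleLocalST hf)

/-- Iterated fibre products of representable maps from schemes are schemes. -/
theorem exists_nfold {X : Sp S} (hX : IsAlgSpace X) :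
    ∀ (n : ℕ) (U : Fin (n + 1) → Over S) (g : ∀ k, (yon S).obj (U k) ⟶ X),
      (∀ k, RepWith flfp (g k)) →
      ∃ (T : Over S) (b : (yon S).obj T ⟶ X) (p : ∀ k, T ⟶ U k), RepWith flfp b ∧
        (∀ k, (yon S).map (p k) ≫ g k = b) ∧
        (∀ (Z : Over S) (r : ∀ k, Z ⟶ U k) (y : (yon S).obj Z ⟶ X),
          (∀ k, (yon S).map (r k) ≫ g k = y) → ∃! l : Z ⟶ T, ∀ k, l ≫ p k = r k) := by
  intro n
  induction n with
  | zero =>
    intro U g hg
    have h0 : ∀ k : Fin 1, k = 0 := fun k ↦ Subsingleton.elim _ _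
    refine ⟨U 0, g 0, fun k ↦ eqToHom (by rw [h0 k]), hg 0, fun k ↦ ?_, fun Z r y _ ↦ ?_⟩
    · obtain rfl := h0 k
      simp
    · refine ⟨r 0, fun k ↦ ?_, fun l hl ↦ ?_⟩
      · obtain rfl := h0 k
        simp
      · simpa using hl 0
  | succ n ih =>
    intro U g hg
    obtain ⟨T, b, p, hb, hp, hu⟩ := ih (fun k ↦ U k.castSucc) (fun k ↦ g k.castSucc)
      (fun k ↦ hg k.castSucc)
    obtain ⟨P, fst, snd, sq⟩ := exists_isPullback_yon hX.diag b (g (Fin.last (n + 1)))
    let q : ∀ k, P ⟶ U k :=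
      Fin.lastCases (motive := fun k ↦ P ⟶ U k) snd (fun k ↦ fst ≫ p k)
    have hql : q (Fin.last (n + 1)) = snd := Fin.lastCases_last
    have hqc : ∀ k, q k.castSucc = fst ≫ p k := fun k ↦ Fin.lastCases_castSucc _
    refine ⟨P, (yon S).map fst ≫ b, q,
      repWith_comp (repWith_baseChange sq.flip (hg _)) hb, ?_, ?_⟩
    · refine Fin.lastCases ?_ (fun k ↦ ?_)
      · rw [hql, sq.w]
      · rw [hqc, Functor.map_comp, Category.assoc, hp]
    · intro Z r y hr
      obtain ⟨l, hl, hlu⟩ := hu Z (fun k ↦ r k.castSucc) y (fun k ↦ hr k.castSucc)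
      have hlb : (yon S).map l ≫ b = y := by
        rw [← hp 0, ← Category.assoc, ← Functor.map_comp, hl, hr]
      obtain ⟨m, hm⟩ := (yon S).map_surjective (sq.lift ((yon S).map l)
        ((yon S).map (r (Fin.last (n + 1)))) (hlb.trans (hr _).symm))
      have m₁ : m ≫ fst = l := (yon S).map_injective (by rw [Functor.map_comp, hm, sq.lift_fst])
      have m₂ : m ≫ snd = r (Fin.last (n + 1)) :=
        (yon S).map_injective (by rw [Functor.map_comp, hm, sq.lift_snd])
      refine ⟨m, Fin.lastCases (by rw [hql, m₂]) (fun k ↦ by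
        rw [hqc, ← Category.assoc, m₁, hl]), fun m' hm' ↦ ?_⟩
      refine (yon S).map_injective (sq.hom_ext ?_ ?_)
      · rw [← Functor.map_comp, ← Functor.map_comp, m₁]
        congr 1
        exact hlu _ fun k ↦ by rw [Category.assoc, ← hqc, hm']
      · rw [← Functor.map_comp, ← Functor.map_comp, m₂, ← hql, hm']

/-- A scheme satisfying the universal property is the wide fibre product. -/
theorem exists_iso_widePullback {X : Sp S} {J : Type} [Nonempty J] {U : J → Over S}
    (g : ∀ k, (yon S).obj (U k) ⟶ X)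
    [HasWidePullback X (fun k ↦ (yon S).obj (U k)) g] {T : Over S} {b : (yon S).obj T ⟶ X}
    (p : ∀ k, T ⟶ U k) (hp : ∀ k, (yon S).map (p k) ≫ g k = b)
    (hu : ∀ (Z : Over S) (r : ∀ k, Z ⟶ U k) (y : (yon S).obj Z ⟶ X),
      (∀ k, (yon S).map (r k) ≫ g k = y) → ∃! l : Z ⟶ T, ∀ k, l ≫ p k = r k) :
    ∃ e : widePullback X (fun k ↦ (yon S).obj (U k)) g ≅ (yon S).obj T,
      WidePullback.base g = e.hom ≫ b := by
  let i := WidePullback.lift b (fun k ↦ (yon S).map (p k)) hp
  have hi : ∀ k, i ≫ WidePullback.π g k = (yon S).map (p k) := fun k ↦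
    WidePullback.lift_π _ _ _ _ _
  have : IsIso i := isIso_of_yon i fun Z ↦ ⟨fun a a' h ↦ by
      obtain ⟨l, rfl⟩ := (yon S).map_surjective a
      obtain ⟨l', rfl⟩ := (yon S).map_surjective a'
      obtain ⟨m, -, hm⟩ := hu Z (fun k ↦ l' ≫ p k) ((yon S).map l' ≫ b) fun k ↦ by
        rw [Functor.map_comp, Category.assoc, hp]
      rw [hm l fun k ↦ (yon S).map_injective (by
        simpa only [Category.assoc, hi, ← Functor.map_comp] using h =≫ WidePullback.π g k),
        hm l' fun k ↦ rfl], fun x ↦ by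
      choose r hr using fun k ↦ (yon S).map_surjective (x ≫ WidePullback.π g k)
      obtain ⟨l, hl, -⟩ := hu Z r (x ≫ WidePullback.base g) fun k ↦ by
        rw [hr, Category.assoc, WidePullback.π_arrow]
      have e : ∀ k, ((yon S).map l ≫ i) ≫ WidePullback.π g k = x ≫ WidePullback.π g k := fun k ↦ by
        rw [Category.assoc, hi, ← Functor.map_comp, hl, hr]
      refine ⟨(yon S).map l, WidePullback.hom_ext _ _ _ e ?_⟩
      have := e (Classical.arbitrary J) =≫ g (Classical.arbitrary J)
      simpa only [Category.assoc, WidePullback.π_arrow] using this⟩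
  exact ⟨(asIso i).symm, by simp [i]⟩

end Groth.Agent.Lib.AlgSpCech
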